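import Groth.Agent.Lib.OmegaTop9.Main
import Groth.Agent.Lib.TFOne27.Basic
import Groth.Agent.Lib.OmegaRank13.Basic
import Groth.Agent.Lib.OmegaVar13.Basic
import Groth.Agent.Lib.VarDim.Scheme
import Groth.Agent.Lib.Wedge2.Basic
import Groth.Agent.Lib.Wedge2.BaseChange
import Groth.Agent.Lib.SepDense19.Basic
import Groth.Agent.Lib.NormFin18.Apps
import Groth.Agent.Lib.PP12.AffineOps
import Groth.Agent.Lib.KoszShH13.Glue
import Groth.Agent.Lib.UnipBC21.AlgClosure
import Groth.Prelude.Def_ExtPow2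

/-!
Linearly independent differentials from a free pullback.
-/

set_option autoImplicit false
set_option backward.isDefEq.respectTransparency false
set_option backward.isDefEq.respectTransparency.types false
set_option linter.style.haveILetI false

universe u

open CategoryTheory CategoryTheory.Limits AlgebraicGeometry TopologicalSpace Opposite TensorProduct
open Groth.Agent.OmegaMono13

namespace Groth.Agent.OmegaTop9

variable {k : Type u} [Field k] {X Z : Scheme.{u}} (pX : X ⟶ Spec (CommRingCat.of k))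
  (pZ : Z ⟶ Spec (CommRingCat.of k)) (f : X ⟶ Z)

set_option maxHeartbeats 2000000 in
theorem exists_independent_sections (hf : f ≫ pZ = pX) [IsIntegral X] [LocallyOfFiniteType pX] [LocallyOfFiniteType pZ]
    [LocallyOfFiniteType f]
    (m : ℕ) (hm : (m : WithBot ℕ∞) = topologicalKrullDim (closure ({f (genericPoint X)} : Set Z)))
    (hsep : letI := (f.residueFieldMap (genericPoint X)).hom.toAlgebra
      Algebra.IsGeometricallyReduced (Z.residueField (f.base (genericPoint X))) (X.residueField (genericPoint X)))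
    {ΩZ : Z.Modules} {dZ : OmegaSh.Der pZ ΩZ} (hdZ : OmegaSh.IsUniversal dZ)
    {ΩX : X.Modules} {dX : OmegaSh.Der pX ΩX} (hdX : OmegaSh.IsUniversal dX)
    (c : (Scheme.Modules.pullback f).obj ΩZ ⟶ ΩX) (hc : OmegaSh.IsDiffCompat f dZ dX c)
    (hfree : ∃ d : ℕ, Nonempty ((Scheme.Modules.pullback f).obj ΩZ ≅ FlatMod.freeMod X d))
    (U : X.Opens) (hξU : genericPoint X ∈ U) :
    ∃ s : Fin m → Γ(ΩX, U), LinearIndependent Γ(X, U) s := by
  classical
  obtain ⟨d, ⟨e⟩⟩ := hfree
  let ξ := genericPoint X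
  let g : FlatMod.freeMod X d ⟶ ΩX := e.inv ≫ c
  let t : Fin d → Γ(ΩX, ⊤) := fun j =>
    (Sigma.ι (fun _ : Fin d => Coh.structureModule X) j ≫ g).app ⊤ (1 : Γ(X, ⊤))
  -- affine charts around the generic point
  obtain ⟨V, hV, hηV, -⟩ := exists_isAffineOpen_mem_and_subset (X := Z) (x := f ξ) (U := ⊤) trivial
  obtain ⟨U', hU', hξU', hle'⟩ := exists_isAffineOpen_mem_and_subset (X := X) (x := ξ) (U := f ⁻¹ᵁ V ⊓ U) ⟨hηV, hξU⟩
  have hle : U' ≤ f ⁻¹ᵁ V := fun y hy => (hle' hy).1
  let R : Type u := Γ(Spec (CommRingCat.of k), ⊤)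
  letI a1 : Algebra R Γ(Z, V) := (pZ.appLE ⊤ V le_top).hom.toAlgebra
  letI a2 : Algebra R Γ(X, U') := (pX.appLE ⊤ U' le_top).hom.toAlgebra
  letI a3 : Algebra Γ(Z, V) Γ(X, U') := (f.appLE V U' hle).hom.toAlgebra
  let L := Z.residueField (f ξ)
  let K := X.residueField ξ
  letI aLK : Algebra L K := (f.residueFieldMap ξ).hom.toAlgebra
  haveI : Algebra.IsGeometricallyReduced L K := hsep
  letI akL : Algebra k L := VarDim.resAlg pZ (f ξ)
  letI akK : Algebra k K := VarDim.resAlg pX ξ
  haveI : IsScalarTower k L K := IsScalarTower.of_algebraMap_eq' (by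
    show VarDim.baseToRes pX ξ = (f.residueFieldMap ξ).hom.comp (VarDim.baseToRes pZ (f ξ))
    rw [← VarDim.baseToRes_comp pZ f ξ, hf])
  letI : Algebra Γ(Z, V) L := (Z.evaluation V (f ξ) hηV).hom.toAlgebra
  letI : Algebra Γ(X, U') K := (X.evaluation U' ξ hξU').hom.toAlgebra
  letI akR : Algebra k R := (Scheme.ΓSpecIso (CommRingCat.of k)).inv.hom.toAlgebra
  letI akA : Algebra k Γ(X, U') := ((algebraMap R Γ(X, U')).comp (Scheme.ΓSpecIso (CommRingCat.of k)).inv.hom).toAlgebra
  letI akB : Algebra k Γ(Z, V) := ((algebraMap R Γ(Z, V)).comp (Scheme.ΓSpecIso (CommRingCat.of k)).inv.hom).toAlgebra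
  haveI : IsScalarTower k Γ(X, U') K := IsScalarTower.of_algebraMap_eq' (by
    show VarDim.baseToRes pX ξ = _
    rw [VarDim.baseToRes]
    ext a
    simp only [CommRingCat.hom_comp, RingHom.comp_apply]
    show X.evaluation ⊤ ξ trivial (pX.appTop ((Scheme.ΓSpecIso (CommRingCat.of k)).inv a)) =
      X.evaluation U' ξ hξU' (pX.appLE ⊤ U' le_top ((Scheme.ΓSpecIso (CommRingCat.of k)).inv a))
    rw [Scheme.Hom.appLE]
    show (X.residue ξ).hom ((X.presheaf.germ ⊤ ξ trivial).hom _) = (X.residue ξ).hom ((X.presheaf.germ U' ξ hξU').hom _)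
    congr 1
    exact (TopCat.Presheaf.germ_res_apply X.presheaf (homOfLE le_top) ξ hξU' _).symm)
  haveI : IsScalarTower k Γ(Z, V) L := IsScalarTower.of_algebraMap_eq' (by
    show VarDim.baseToRes pZ (f ξ) = _
    rw [VarDim.baseToRes]
    ext a
    simp only [CommRingCat.hom_comp, RingHom.comp_apply]
    show Z.evaluation ⊤ (f ξ) trivial (pZ.appTop ((Scheme.ΓSpecIso (CommRingCat.of k)).inv a)) =
      Z.evaluation V (f ξ) hηV (pZ.appLE ⊤ V le_top ((Scheme.ΓSpecIso (CommRingCat.of k)).inv a))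
    rw [Scheme.Hom.appLE]
    show (Z.residue (f ξ)).hom ((Z.presheaf.germ ⊤ (f ξ) trivial).hom _) =
      (Z.residue (f ξ)).hom ((Z.presheaf.germ V (f ξ) hηV).hom _)
    congr 1
    exact (TopCat.Presheaf.germ_res_apply Z.presheaf (homOfLE le_top) (f ξ) hηV _).symm)
  haveI : Algebra.EssFiniteType L K :=
    RingHom.essFiniteType_algebraMap.1 (NormFin18.essFiniteType_residueFieldMap f ξ)
  haveI : Algebra.FormallySmooth L K := FlatDepth.formallySmooth_of_geomReduced L K
  haveI : Algebra.EssFiniteType k L := by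
    haveI : Algebra.FiniteType k Γ(Z, V) := RingHom.finiteType_algebraMap.1 (RingHom.FiniteType.comp
      (pZ.finiteType_appLE (isAffineOpen_top _) hV le_top)
      (RingHom.FiniteType.of_surjective _
        (ConcreteCategory.bijective_of_isIso (Scheme.ΓSpecIso (CommRingCat.of k)).inv).2))
    haveI : Algebra.EssFiniteType Γ(Z, V) L := by
      refine RingHom.essFiniteType_algebraMap.1 ?_
      show ((Z.residue (f ξ)).hom.comp (Z.presheaf.germ V (f ξ) hηV).hom).EssFiniteType
      refine RingHom.EssFiniteType.comp ?_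
        (RingHom.FiniteType.of_surjective _ (Z.residue_surjective _)).essFiniteType
      letI := Z.presheaf.algebra_section_stalk (U := V) ⟨f ξ, hηV⟩
      haveI := hV.isLocalization_stalk ⟨f ξ, hηV⟩
      exact RingHom.essFiniteType_algebraMap.2
        (Algebra.EssFiniteType.of_isLocalization _ (hV.primeIdealOf ⟨f ξ, hηV⟩).asIdeal.primeCompl)
    exact Algebra.EssFiniteType.comp k Γ(Z, V) L
  have htr : (m : Cardinal) ≤ Algebra.trdeg k L := by
    rw [VarDim.dim_closure_singleton pZ] at hm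
    have h1 : m = VarDim.sdim pZ (f ξ) := by exact_mod_cast hm
    rw [h1, VarDim.sdim, VarDim.tdeg]
    exact Cardinal.natCast_toNat_le _
  -- the differentials of the sections over the generic point
  let e' := Omega12.sectLinEquiv pX hdX hU' (isAffineOpen_top _) (le_top : U' ≤ pX ⁻¹ᵁ ⊤)
  haveI : IsScalarTower k R Γ(X, U') := IsScalarTower.of_algebraMap_eq' rfl
  let eR := KaehlerDifferential.map k R Γ(X, U') Γ(X, U')
  have heR : Function.Bijective eR := OmegaVar13.bijective_map k R Γ(X, U')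
    (ConcreteCategory.bijective_of_isIso (Scheme.ΓSpecIso (CommRingCat.of k)).inv).2
  let eA := LinearEquiv.ofBijective eR heR
  let toK : Γ(ΩX, U') →ₗ[Γ(X, U')] Ω[K⁄k] :=
    (KaehlerDifferential.map k k Γ(X, U') K).comp (e'.symm.trans eA.symm).toLinearMap
  have htoK : ∀ a : Γ(X, U'), toK (dX.app U' a) = KaehlerDifferential.D k K (algebraMap _ K a) := fun a => by
    have h1 : eA (KaehlerDifferential.D k Γ(X, U') a) = KaehlerDifferential.D R Γ(X, U') a :=
      KaehlerDifferential.map_D k R Γ(X, U') Γ(X, U') a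
    have h2 : e' (KaehlerDifferential.D R Γ(X, U') a) = dX.app U' a :=
      Omega12.sectLinEquiv_D pX hdX hU' (isAffineOpen_top _) le_top a
    rw [← h2, ← h1]
    simp only [toK, LinearMap.comp_apply, LinearEquiv.coe_coe, LinearEquiv.trans_apply, LinearEquiv.symm_apply_apply]
    exact (congrArg (KaehlerDifferential.map k k Γ(X, U') K) (eA.symm_apply_apply _)).trans
      (KaehlerDifferential.map_D k k Γ(X, U') K a)
  let w : Fin d → Ω[K⁄k] := fun j => toK (M1.mres ΩX (le_top : U' ≤ ⊤) (t j))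
  let P := Submodule.span K (Set.range w)
  have hb : ∀ b : Γ(Z, V), KaehlerDifferential.D k K (algebraMap L K (algebraMap Γ(Z, V) L b)) ∈ P := fun b => by
    let y := dZ.app V b
    have h1 : dX.app U' (f.appLE V U' hle b) = g.app U' (e.hom.app U'
        (PullBC11.sect (PP12.unitTo f ΩZ) hle y)) := by
      show _ = (e.hom ≫ e.inv ≫ c).app U' _
      rw [Iso.hom_inv_id_assoc]
      have h2 : PullBC11.sect (Omega12.adjMap c) hle y = dX.app U' (f.appLE V U' hle b) := by
        show M1.mres ΩX hle ((Omega12.adjMap c).app V (dZ.app V b)) = dX.app U' (f.appLE V U' hle b)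
        rw [Omega12.adjMap_d hc]
        exact (dX.d_map (homOfLE hle).op (f.app V b)).symm
      rw [← h2]
      exact (ConcreteCategory.congr_hom (c.mapPresheaf.naturality (homOfLE hle).op) _).symm
    have h3 : toK (dX.app U' (f.appLE V U' hle b)) ∈ P := by
      rw [h1]
      have h4 := app_mem_span g U' (e.hom.app U' (PullBC11.sect (PP12.unitTo f ΩZ) hle y))
      generalize g.app U' (e.hom.app U' (PullBC11.sect (PP12.unitTo f ΩZ) hle y)) = z at h4 ⊢
      induction h4 using Submodule.span_induction with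
      | mem z hz => obtain ⟨j, rfl⟩ := hz; exact Submodule.subset_span ⟨j, rfl⟩
      | zero => rw [map_zero]; exact P.zero_mem
      | add a b _ _ ha hb => rw [map_add]; exact P.add_mem ha hb
      | smul r z _ hz => rw [map_smul, ← algebraMap_smul K r]; exact P.smul_mem _ hz
    rw [htoK] at h3
    convert h3 using 2
    show (f.residueFieldMap ξ) (Z.evaluation V (f ξ) hηV b) = X.evaluation U' ξ hξU' (f.appLE V U' hle b)
    rw [Scheme.evaluation_naturality_apply]
    show (X.residue ξ).hom ((X.presheaf.germ (f ⁻¹ᵁ V) ξ hηV).hom _) = (X.residue ξ).hom ((X.presheaf.germ U' ξ hξU').hom _)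
    congr 1
    rw [Scheme.Hom.appLE]
    exact (TopCat.Presheaf.germ_res_apply X.presheaf (homOfLE hle) ξ hξU' _).symm
  have hw : ∀ l : L, KaehlerDifferential.D k K (algebraMap L K l) ∈ P := fun l => by
    obtain ⟨a, s, hl⟩ := VarDim.exists_evaluation_eq_div hV (f ξ) hηV l
    by_cases hs : algebraMap Γ(Z, V) L s = 0
    · rw [show l = 0 by rw [hl]; exact (congrArg (_ / ·) hs).trans (div_zero _)]
      simp
    obtain rfl : l = algebraMap Γ(Z, V) L a * (algebraMap Γ(Z, V) L s)⁻¹ := hl.trans (div_eq_mul_inv _ _)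
    have h5 : algebraMap L K (algebraMap Γ(Z, V) L s) ≠ 0 := by
      simpa only [ne_eq, map_eq_zero] using hs
    have h6 : algebraMap L K (algebraMap Γ(Z, V) L a * (algebraMap Γ(Z, V) L s)⁻¹) *
        algebraMap L K (algebraMap Γ(Z, V) L s) = algebraMap L K (algebraMap Γ(Z, V) L a) := by
      rw [← map_mul, mul_assoc, inv_mul_cancel₀ hs, mul_one]
    have h7 := congrArg (KaehlerDifferential.D k K) h6
    rw [Derivation.leibniz] at h7
    rw [← inv_smul_smul₀ h5 (KaehlerDifferential.D k K _)]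
    refine P.smul_mem _ ?_
    rw [eq_sub_of_add_eq' h7]
    exact P.sub_mem (hb a) (P.smul_mem _ (hb s))
  obtain ⟨sel, hsel⟩ := exists_independent L K m htr w hw
  have hU'U : U' ≤ U := fun y hy => (hle' hy).2
  refine ⟨fun i => M1.mres ΩX (le_top : U ≤ ⊤) (t (sel i)), ?_⟩
  rw [Fintype.linearIndependent_iff]
  intro r hr i
  let ρ : Γ(X, U) →+* Γ(X, U') := (X.presheaf.map (homOfLE hU'U).op).hom
  have h1 : ∑ j, ρ (r j) • M1.mres ΩX (le_top : U' ≤ ⊤) (t (sel j)) = 0 := by
    have := congrArg (M1.mres ΩX hU'U) hr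
    rw [map_sum, map_zero] at this
    refine Eq.trans (Finset.sum_congr rfl fun j _ => ?_) this
    rw [← M1.mres_mres ΩX (le_top : U ≤ ⊤) hU'U]
    exact (M1.mres_smul ΩX hU'U (r j) _).symm
  have h2 := congrArg toK h1
  rw [map_sum, map_zero] at h2
  have h3 : ∑ j, algebraMap Γ(X, U') K (ρ (r j)) • w (sel j) = 0 := by
    refine Eq.trans (Finset.sum_congr rfl fun j _ => ?_) h2
    rw [map_smul, algebraMap_smul]
  have h4 := Fintype.linearIndependent_iff.1 hsel _ h3 i
  have hF : IsField (X.presheaf.stalk ξ) := Groth.Agent.TFOne27.isField_stalk (by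
    simp [genericPoints_eq_singleton, ξ])
  letI := hF.toField
  have h5 : (X.presheaf.germ U' ξ hξU').hom (ρ (r i)) = 0 := by
    refine (injective_iff_map_eq_zero (X.residue ξ).hom).1 (RingHom.injective _) _ ?_
    exact h4
  refine germ_injective_of_isIntegral X ξ hξU ?_
  rw [map_zero, ← h5]
  exact (TopCat.Presheaf.germ_res_apply X.presheaf (homOfLE hU'U) ξ hξU' _).symm

end Groth.Agent.OmegaTop9
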