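import Groth.Agent.Lib.OmegaMono9.Main
import Groth.Agent.Lib.OmegaRank13.Basic
import Groth.Agent.Lib.OmegaVar13.Basic
import Groth.Agent.Lib.VarDim.Scheme
import Groth.Agent.Lib.Wedge2.Basic
import Groth.Agent.Lib.Wedge2.BaseChange
import Groth.Agent.Lib.SepDense19.Basic
import Groth.Agent.Lib.NormFin18.Apps
import Groth.Agent.Lib.PP12.AffineOps
import Groth.Agent.Lib.KoszShH13.Glue
import Groth.Agent.Lib.UnipBC21.AlgClosure
import Groth.Prelude.Def_ExtPow2

/-!
A nonzero exterior power of differentials from a free pullback.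
-/

set_option autoImplicit false
set_option backward.isDefEq.respectTransparency false
set_option backward.isDefEq.respectTransparency.types false
set_option linter.style.haveILetI false

universe u

open CategoryTheory CategoryTheory.Limits AlgebraicGeometry TopologicalSpace Opposite TensorProduct
open Groth.Agent.OmegaMono13

namespace Groth.Agent.OmegaTop9

section Alg

variable {k : Type u} [Field k] (L K : Type u) [Field L] [Field K] [Algebra k L] [Algebra k K] [Algebra L K]
  [IsScalarTower k L K]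

/-- Among vectors spanning the differentials coming from below, as many as the transcendence degree are independent. -/
theorem exists_independent [Algebra.FormallySmooth L K] [Algebra.EssFiniteType k L] (m : ℕ)
    (hm : (m : Cardinal) ≤ Algebra.trdeg k L) {d : ℕ} (w : Fin d → Ω[K⁄k])
    (hw : ∀ l : L, KaehlerDifferential.D k K (algebraMap L K l) ∈ Submodule.span K (Set.range w)) :
    ∃ sel : Fin m → Fin d, LinearIndependent K (w ∘ sel) := by
  classical
  let ψ := KaehlerDifferential.mapBaseChange k L K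
  have hψ : Function.Injective ψ := by
    rw [injective_iff_map_eq_zero]
    intro x hx
    obtain ⟨y, rfl⟩ := (Algebra.H1Cotangent.exact_δ_mapBaseChange k L K x).1 hx
    rw [Subsingleton.elim y 0, map_zero]
  let P := Submodule.span K (Set.range w)
  have hrange : ∀ z, ψ z ∈ P := fun z => by
    induction z using TensorProduct.induction_on with
    | zero => simp
    | add a b ha hb => rw [map_add]; exact P.add_mem ha hb
    | tmul a v =>
      rw [KaehlerDifferential.mapBaseChange_tmul]
      refine P.smul_mem _ ?_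
      have hv : v ∈ Submodule.span L (Set.range (KaehlerDifferential.D k L)) := by
        rw [KaehlerDifferential.span_range_derivation]; trivial
      induction hv using Submodule.span_induction with
      | mem y hy => obtain ⟨l, rfl⟩ := hy; rw [KaehlerDifferential.map_D]; exact hw l
      | zero => rw [map_zero]; exact P.zero_mem
      | add a b _ _ ha hb => rw [map_add]; exact P.add_mem ha hb
      | smul r y _ hy =>
        rw [map_smul, ← algebraMap_smul K r]
        exact P.smul_mem _ hy
  haveI : Module.Finite K P := Module.Finite.span_of_finite _ (Set.finite_range w)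
  have h1 : Module.finrank L Ω[L⁄k] ≤ Module.finrank K P := by
    rw [← Module.finrank_baseChange (R := K) (S := L) (M' := Ω[L⁄k])]
    exact LinearMap.finrank_le_finrank_of_injective (f := ψ.codRestrict P hrange)
      fun a b h => hψ (congrArg Subtype.val h)
  have h2 : m ≤ Module.finrank K P := by
    have := hm.trans (OmegaRank13.trdeg_le_finrank (k := k) L)
    exact (by exact_mod_cast this : m ≤ _).trans h1
  obtain ⟨b, hb, hbspan, hbli⟩ := exists_linearIndependent K (Set.range w)
  haveI : Finite b := ((Set.finite_range w).subset hb).to_subtype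
  haveI : Fintype b := Fintype.ofFinite b
  have hcard : m ≤ Fintype.card b := by
    rw [← finrank_span_eq_card hbli, Subtype.range_coe, hbspan]; exact h2
  obtain ⟨emb⟩ : Nonempty (Fin m ↪ b) := Function.Embedding.nonempty_of_card_le (by simpa using hcard)
  choose sel hsel using fun i => hb (emb i).2
  refine ⟨sel, ?_⟩
  have : w ∘ sel = Subtype.val ∘ emb := funext hsel
  rw [this]
  exact hbli.comp emb emb.injective

omit [Algebra k L] [Algebra L K] [IsScalarTower k L K] in
theorem ιMulti_ne_zero {m : ℕ} {V : Type u} [AddCommGroup V] [Module K V] (v : Fin m → V)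
    (hv : LinearIndependent K v) : exteriorPower.ιMulti K m v ≠ 0 := by
  classical
  obtain ⟨P, hP⟩ := LinearMap.exists_leftInverse_of_injective (Fintype.linearCombination K v)
    (LinearMap.ker_eq_bot.2 hv.fintypeLinearCombination_injective)
  intro h
  let A := (Matrix.detRowAlternating (n := Fin m) (R := K)).compLinearMap P
  have h1 : exteriorPower.alternatingMapLinearEquiv A (exteriorPower.ιMulti K m v) = A v :=
    exteriorPower.alternatingMapLinearEquiv_apply_ιMulti A v
  rw [h, map_zero] at h1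
  have h2 : (fun i => P (v i)) = (1 : Matrix (Fin m) (Fin m) K) := by
    funext i
    have := LinearMap.congr_fun hP (Pi.single i 1)
    simp only [LinearMap.comp_apply, Fintype.linearCombination_apply_single, one_smul, LinearMap.id_apply] at this
    rw [this]
    ext j
    simp [Matrix.one_apply, Pi.single_apply, eq_comm]
  have h3 : A v = Matrix.det (1 : Matrix (Fin m) (Fin m) K) := by
    show Matrix.det (fun i => P (v i)) = _
    rw [h2]
  rw [Matrix.det_one] at h3
  exact one_ne_zero (h3.symm.trans h1.symm)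

end Alg

/-- Sections of a finite coproduct of structure modules are combinations of the unit sections. -/
theorem app_mem_span {X : Scheme.{u}} {M : X.Modules} {d : ℕ} (g : FlatMod.freeMod X d ⟶ M) (W : X.Opens)
    (a : Γ(FlatMod.freeMod X d, W)) :
    g.app W a ∈ Submodule.span Γ(X, W) (Set.range fun j : Fin d =>
      M1.mres M (le_top : W ≤ ⊤) ((Sigma.ι (fun _ : Fin d => Coh.structureModule X) j ≫ g).app ⊤ (1 : Γ(X, ⊤)))) := by
  classical
  let F := fun _ : Fin d => Coh.structureModule X
  let π : ∀ i, FlatMod.freeMod X d ⟶ Coh.structureModule X := fun i =>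
    Sigma.desc fun j => if j = i then 𝟙 _ else 0
  have hid : ∑ i, π i ≫ Sigma.ι F i = 𝟙 _ := by
    refine Sigma.hom_ext _ _ fun j => ?_
    rw [Preadditive.comp_sum, Finset.sum_eq_single j]
    · simp [π, F]
    · intro i _ hi
      simp [π, F, Ne.symm hi]
    · simp
  let ev : (FlatMod.freeMod X d ⟶ M) →+ Γ(M, W) := AddMonoidHom.mk' (fun φ => φ.app W a) (fun φ ψ => by simp)
  have h : g.app W a = ∑ i, (Sigma.ι F i ≫ g).app W ((π i).app W a) := by
    show ev g = _
    conv_lhs => rw [← Category.id_comp g, ← hid, Preadditive.sum_comp, map_sum]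
    refine Finset.sum_congr rfl fun i _ => ?_
    simp [ev, F]
  rw [h]
  refine Submodule.sum_mem _ fun i _ => ?_
  let r : Γ(X, W) := (π i).app W a
  have h1 : (π i).app W a = r • M1.mres (Coh.structureModule X) (le_top : W ≤ ⊤) (1 : Γ(X, ⊤)) := by
    show r = r * (X.presheaf.map (homOfLE (le_top : W ≤ ⊤)).op).hom 1
    rw [map_one, mul_one]
  rw [h1, Scheme.Modules.Hom.app_smul]
  refine Submodule.smul_mem _ _ (Submodule.subset_span ⟨i, ?_⟩)
  exact (ConcreteCategory.congr_hom ((Sigma.ι F i ≫ g).mapPresheaf.naturality (homOfLE (le_top : W ≤ ⊤)).op) _).symm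

variable {k : Type u} [Field k] {X Z : Scheme.{u}} (pX : X ⟶ Spec (CommRingCat.of k))
  (pZ : Z ⟶ Spec (CommRingCat.of k)) (f : X ⟶ Z)

set_option maxHeartbeats 2000000 in
theorem exists_section (hf : f ≫ pZ = pX) [IsIntegral X] [LocallyOfFiniteType pX] [LocallyOfFiniteType pZ]
    [LocallyOfFiniteType f]
    (m : ℕ) (hm : (m : WithBot ℕ∞) = topologicalKrullDim (closure ({f (genericPoint X)} : Set Z)))
    (hsep : letI := (f.residueFieldMap (genericPoint X)).hom.toAlgebra
      Algebra.IsGeometricallyReduced (Z.residueField (f.base (genericPoint X))) (X.residueField (genericPoint X)))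
    {ΩZ : Z.Modules} {dZ : OmegaSh.Der pZ ΩZ} (hdZ : OmegaSh.IsUniversal dZ)
    {ΩX : X.Modules} {dX : OmegaSh.Der pX ΩX} (hdX : OmegaSh.IsUniversal dX)
    (c : (Scheme.Modules.pullback f).obj ΩZ ⟶ ΩX) (hc : OmegaSh.IsDiffCompat f dZ dX c)
    (hfree : ∃ d : ℕ, Nonempty ((Scheme.Modules.pullback f).obj ΩZ ≅ FlatMod.freeMod X d))
    (U : X.Opens) (hξU : genericPoint X ∈ U)
    (Ωm : X.Modules) (hΩm : ExtPow.IsExtPow m ΩX Ωm) :
    ∃ s : Ωm.val.obj (Opposite.op U), s ≠ 0 := by
  classical
  obtain ⟨d, ⟨e⟩⟩ := hfree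
  obtain ⟨φ, hφ⟩ := hΩm
  let ξ := genericPoint X
  let g : FlatMod.freeMod X d ⟶ ΩX := e.inv ≫ c
  let t : Fin d → Γ(ΩX, ⊤) := fun j =>
    (Sigma.ι (fun _ : Fin d => Coh.structureModule X) j ≫ g).app ⊤ (1 : Γ(X, ⊤))
  -- affine charts around the generic point
  obtain ⟨V, hV, hηV, -⟩ := exists_isAffineOpen_mem_and_subset (X := Z) (x := f ξ) (U := ⊤) trivial
  obtain ⟨U', hU', hξU', hle'⟩ := exists_isAffineOpen_mem_and_subset (X := X) (x := ξ) (U := f ⁻¹ᵁ V ⊓ U) ⟨hηV, hξU⟩
  have hle : U' ≤ f ⁻¹ᵁ V := fun y hy => (hle' hy).1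
  let R : Type u := Γ(Spec (CommRingCat.of k), ⊤)
  letI a1 : Algebra R Γ(Z, V) := (pZ.appLE ⊤ V le_top).hom.toAlgebra
  letI a2 : Algebra R Γ(X, U') := (pX.appLE ⊤ U' le_top).hom.toAlgebra
  letI a3 : Algebra Γ(Z, V) Γ(X, U') := (f.appLE V U' hle).hom.toAlgebra
  let L := Z.residueField (f ξ)
  let K := X.residueField ξ
  letI aLK : Algebra L K := (f.residueFieldMap ξ).hom.toAlgebra
  haveI : Algebra.IsGeometricallyReduced L K := hsep
  letI akL : Algebra k L := VarDim.resAlg pZ (f ξ)
  letI akK : Algebra k K := VarDim.resAlg pX ξ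
  haveI : IsScalarTower k L K := IsScalarTower.of_algebraMap_eq' (by
    show VarDim.baseToRes pX ξ = (f.residueFieldMap ξ).hom.comp (VarDim.baseToRes pZ (f ξ))
    rw [← VarDim.baseToRes_comp pZ f ξ, hf])
  letI : Algebra Γ(Z, V) L := (Z.evaluation V (f ξ) hηV).hom.toAlgebra
  letI : Algebra Γ(X, U') K := (X.evaluation U' ξ hξU').hom.toAlgebra
  letI akR : Algebra k R := (Scheme.ΓSpecIso (CommRingCat.of k)).inv.hom.toAlgebra
  letI akA : Algebra k Γ(X, U') := ((algebraMap R Γ(X, U')).comp (Scheme.ΓSpecIso (CommRingCat.of k)).inv.hom).toAlgebra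
  letI akB : Algebra k Γ(Z, V) := ((algebraMap R Γ(Z, V)).comp (Scheme.ΓSpecIso (CommRingCat.of k)).inv.hom).toAlgebra
  haveI : IsScalarTower k Γ(X, U') K := IsScalarTower.of_algebraMap_eq' (by
    show VarDim.baseToRes pX ξ = _
    rw [VarDim.baseToRes]
    ext a
    simp only [CommRingCat.hom_comp, RingHom.comp_apply]
    show X.evaluation ⊤ ξ trivial (pX.appTop ((Scheme.ΓSpecIso (CommRingCat.of k)).inv a)) =
      X.evaluation U' ξ hξU' (pX.appLE ⊤ U' le_top ((Scheme.ΓSpecIso (CommRingCat.of k)).inv a))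
    rw [Scheme.Hom.appLE]
    show (X.residue ξ).hom ((X.presheaf.germ ⊤ ξ trivial).hom _) = (X.residue ξ).hom ((X.presheaf.germ U' ξ hξU').hom _)
    congr 1
    exact (TopCat.Presheaf.germ_res_apply X.presheaf (homOfLE le_top) ξ hξU' _).symm)
  haveI : IsScalarTower k Γ(Z, V) L := IsScalarTower.of_algebraMap_eq' (by
    show VarDim.baseToRes pZ (f ξ) = _
    rw [VarDim.baseToRes]
    ext a
    simp only [CommRingCat.hom_comp, RingHom.comp_apply]
    show Z.evaluation ⊤ (f ξ) trivial (pZ.appTop ((Scheme.ΓSpecIso (CommRingCat.of k)).inv a)) =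
      Z.evaluation V (f ξ) hηV (pZ.appLE ⊤ V le_top ((Scheme.ΓSpecIso (CommRingCat.of k)).inv a))
    rw [Scheme.Hom.appLE]
    show (Z.residue (f ξ)).hom ((Z.presheaf.germ ⊤ (f ξ) trivial).hom _) =
      (Z.residue (f ξ)).hom ((Z.presheaf.germ V (f ξ) hηV).hom _)
    congr 1
    exact (TopCat.Presheaf.germ_res_apply Z.presheaf (homOfLE le_top) (f ξ) hηV _).symm)
  haveI : Algebra.EssFiniteType L K :=
    RingHom.essFiniteType_algebraMap.1 (NormFin18.essFiniteType_residueFieldMap f ξ)
  haveI : Algebra.FormallySmooth L K := FlatDepth.formallySmooth_of_geomReduced L K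
  haveI : Algebra.EssFiniteType k L := by
    haveI : Algebra.FiniteType k Γ(Z, V) := RingHom.finiteType_algebraMap.1 (RingHom.FiniteType.comp
      (pZ.finiteType_appLE (isAffineOpen_top _) hV le_top)
      (RingHom.FiniteType.of_surjective _
        (ConcreteCategory.bijective_of_isIso (Scheme.ΓSpecIso (CommRingCat.of k)).inv).2))
    haveI : Algebra.EssFiniteType Γ(Z, V) L := by
      refine RingHom.essFiniteType_algebraMap.1 ?_
      show ((Z.residue (f ξ)).hom.comp (Z.presheaf.germ V (f ξ) hηV).hom).EssFiniteType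
      refine RingHom.EssFiniteType.comp ?_
        (RingHom.FiniteType.of_surjective _ (Z.residue_surjective _)).essFiniteType
      letI := Z.presheaf.algebra_section_stalk (U := V) ⟨f ξ, hηV⟩
      haveI := hV.isLocalization_stalk ⟨f ξ, hηV⟩
      exact RingHom.essFiniteType_algebraMap.2
        (Algebra.EssFiniteType.of_isLocalization _ (hV.primeIdealOf ⟨f ξ, hηV⟩).asIdeal.primeCompl)
    exact Algebra.EssFiniteType.comp k Γ(Z, V) L
  have htr : (m : Cardinal) ≤ Algebra.trdeg k L := by
    rw [VarDim.dim_closure_singleton pZ] at hm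
    have h1 : m = VarDim.sdim pZ (f ξ) := by exact_mod_cast hm
    rw [h1, VarDim.sdim, VarDim.tdeg]
    exact Cardinal.natCast_toNat_le _
  -- the differentials of the sections over the generic point
  let e' := Omega12.sectLinEquiv pX hdX hU' (isAffineOpen_top _) (le_top : U' ≤ pX ⁻¹ᵁ ⊤)
  haveI : IsScalarTower k R Γ(X, U') := IsScalarTower.of_algebraMap_eq' rfl
  let eR := KaehlerDifferential.map k R Γ(X, U') Γ(X, U')
  have heR : Function.Bijective eR := OmegaVar13.bijective_map k R Γ(X, U')
    (ConcreteCategory.bijective_of_isIso (Scheme.ΓSpecIso (CommRingCat.of k)).inv).2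
  let eA := LinearEquiv.ofBijective eR heR
  let toK : Γ(ΩX, U') →ₗ[Γ(X, U')] Ω[K⁄k] :=
    (KaehlerDifferential.map k k Γ(X, U') K).comp (e'.symm.trans eA.symm).toLinearMap
  have htoK : ∀ a : Γ(X, U'), toK (dX.app U' a) = KaehlerDifferential.D k K (algebraMap _ K a) := fun a => by
    have h1 : eA (KaehlerDifferential.D k Γ(X, U') a) = KaehlerDifferential.D R Γ(X, U') a :=
      KaehlerDifferential.map_D k R Γ(X, U') Γ(X, U') a
    have h2 : e' (KaehlerDifferential.D R Γ(X, U') a) = dX.app U' a :=
      Omega12.sectLinEquiv_D pX hdX hU' (isAffineOpen_top _) le_top a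
    rw [← h2, ← h1]
    simp only [toK, LinearMap.comp_apply, LinearEquiv.coe_coe, LinearEquiv.trans_apply, LinearEquiv.symm_apply_apply]
    exact (congrArg (KaehlerDifferential.map k k Γ(X, U') K) (eA.symm_apply_apply _)).trans
      (KaehlerDifferential.map_D k k Γ(X, U') K a)
  let w : Fin d → Ω[K⁄k] := fun j => toK (M1.mres ΩX (le_top : U' ≤ ⊤) (t j))
  let P := Submodule.span K (Set.range w)
  have hb : ∀ b : Γ(Z, V), KaehlerDifferential.D k K (algebraMap L K (algebraMap Γ(Z, V) L b)) ∈ P := fun b => by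
    let y := dZ.app V b
    have h1 : dX.app U' (f.appLE V U' hle b) = g.app U' (e.hom.app U'
        (PullBC11.sect (PP12.unitTo f ΩZ) hle y)) := by
      show _ = (e.hom ≫ e.inv ≫ c).app U' _
      rw [Iso.hom_inv_id_assoc]
      have h2 : PullBC11.sect (Omega12.adjMap c) hle y = dX.app U' (f.appLE V U' hle b) := by
        show M1.mres ΩX hle ((Omega12.adjMap c).app V (dZ.app V b)) = dX.app U' (f.appLE V U' hle b)
        rw [Omega12.adjMap_d hc]
        exact (dX.d_map (homOfLE hle).op (f.app V b)).symm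
      rw [← h2]
      exact (ConcreteCategory.congr_hom (c.mapPresheaf.naturality (homOfLE hle).op) _).symm
    have h3 : toK (dX.app U' (f.appLE V U' hle b)) ∈ P := by
      rw [h1]
      have h4 := app_mem_span g U' (e.hom.app U' (PullBC11.sect (PP12.unitTo f ΩZ) hle y))
      generalize g.app U' (e.hom.app U' (PullBC11.sect (PP12.unitTo f ΩZ) hle y)) = z at h4 ⊢
      induction h4 using Submodule.span_induction with
      | mem z hz => obtain ⟨j, rfl⟩ := hz; exact Submodule.subset_span ⟨j, rfl⟩
      | zero => rw [map_zero]; exact P.zero_mem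
      | add a b _ _ ha hb => rw [map_add]; exact P.add_mem ha hb
      | smul r z _ hz => rw [map_smul, ← algebraMap_smul K r]; exact P.smul_mem _ hz
    rw [htoK] at h3
    convert h3 using 2
    show (f.residueFieldMap ξ) (Z.evaluation V (f ξ) hηV b) = X.evaluation U' ξ hξU' (f.appLE V U' hle b)
    rw [Scheme.evaluation_naturality_apply]
    show (X.residue ξ).hom ((X.presheaf.germ (f ⁻¹ᵁ V) ξ hηV).hom _) = (X.residue ξ).hom ((X.presheaf.germ U' ξ hξU').hom _)
    congr 1
    rw [Scheme.Hom.appLE]
    exact (TopCat.Presheaf.germ_res_apply X.presheaf (homOfLE hle) ξ hξU' _).symm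
  have hw : ∀ l : L, KaehlerDifferential.D k K (algebraMap L K l) ∈ P := fun l => by
    obtain ⟨a, s, hl⟩ := VarDim.exists_evaluation_eq_div hV (f ξ) hηV l
    by_cases hs : algebraMap Γ(Z, V) L s = 0
    · rw [show l = 0 by rw [hl]; exact (congrArg (_ / ·) hs).trans (div_zero _)]
      simp
    obtain rfl : l = algebraMap Γ(Z, V) L a * (algebraMap Γ(Z, V) L s)⁻¹ := hl.trans (div_eq_mul_inv _ _)
    have h5 : algebraMap L K (algebraMap Γ(Z, V) L s) ≠ 0 := by
      simpa only [ne_eq, map_eq_zero] using hs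
    have h6 : algebraMap L K (algebraMap Γ(Z, V) L a * (algebraMap Γ(Z, V) L s)⁻¹) *
        algebraMap L K (algebraMap Γ(Z, V) L s) = algebraMap L K (algebraMap Γ(Z, V) L a) := by
      rw [← map_mul, mul_assoc, inv_mul_cancel₀ hs, mul_one]
    have h7 := congrArg (KaehlerDifferential.D k K) h6
    rw [Derivation.leibniz] at h7
    rw [← inv_smul_smul₀ h5 (KaehlerDifferential.D k K _)]
    refine P.smul_mem _ ?_
    rw [eq_sub_of_add_eq' h7]
    exact P.sub_mem (hb a) (P.smul_mem _ (hb s))
  obtain ⟨sel, hsel⟩ := exists_independent L K m htr w hw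
  -- glue the wedge
  let sV : ∀ W : X.affineOpens, Γ(Ωm, W.1) := fun W =>
    (φ W).symm (exteriorPower.ιMulti _ m fun i => M1.mres ΩX (le_top : W.1 ≤ ⊤) (t (sel i)))
  obtain ⟨s, hs, -⟩ := Wedge2.exists_glue_section (P := fun _ => True) KoszShH13.isAffBasis_top Ωm U
    (fun W _ _ => sV W) (fun W _ _ W' _ h => by
      show Ωm.val.map (homOfLE h).op _ = _
      rw [hφ W W' h]
      refine congrArg (φ W').symm (congrArg (exteriorPower.ιMulti _ m) (funext fun i => ?_))
      exact M1.mres_mres ΩX _ _ _)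
  refine ⟨s, fun h0 => ?_⟩
  have h1 := hs ⟨U', hU'⟩ trivial fun y hy => (hle' hy).2
  rw [show s = 0 from h0, map_zero] at h1
  have h2 : exteriorPower.ιMulti Γ(X, U') m (fun i => M1.mres ΩX (le_top : U' ≤ ⊤) (t (sel i))) = 0 :=
    (φ ⟨U', hU'⟩).symm.map_eq_zero_iff.1 h1.symm
  have h3 := congrArg (Wedge2.tau (B := K) toK m) h2
  rw [Wedge2.tau_ιMulti, map_zero] at h3
  exact ιMulti_ne_zero K _ hsel h3

end Groth.Agent.OmegaTop9
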